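import Cfsg.Agent.Lib.Classical.FieldExtMax.Main
import Cfsg.Agent.Lib.Classical.SympSimple

/-!
# Symplectic groups over an extension field inside symplectic groups: configurations
-/

set_option autoImplicit false
set_option linter.unusedSectionVars false

namespace CfsgLib.Classical.FieldExtSymp

open Module CfsgLib.Classical CfsgLib.Classical.FieldExtMax

variable {F K V : Type*} [Field F] [Field K] [Algebra F K] [AddCommGroup V] [Module F V] [Module K V]
  [IsScalarTower F K V] [FiniteDimensional F K] [FiniteDimensional K V]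
  {B : V →ₗ[F] V →ₗ[F] F} {φ : V →ₗ[K] V →ₗ[K] K} {f₀ : K →ₗ[F] F} {M : Subgroup (V ≃ₗ[F] V)}

/-- `B` is the composition of a functional with an alternating form over `K`, and `M` is a group of
isometries of `B` containing the isometry group of that form. -/
structure Setting (B : V →ₗ[F] V →ₗ[F] F) (φ : V →ₗ[K] V →ₗ[K] K) (f₀ : K →ₗ[F] F)
    (M : Subgroup (V ≃ₗ[F] V)) : Prop where
  alt : B.IsAlt
  nondeg : B.Nondegenerate
  altK : φ.IsAlt
  nondegK : φ.Nondegenerate
  ne_zero : f₀ ≠ 0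
  eq : ∀ x y, B x y = f₀ (φ x y)
  isom : ∀ e ∈ M, ∀ x y, B (e x) (e y) = B x y
  sp : ∀ e : isomGroup φ, e.1.restrictScalars F ∈ M

theorem exists_scalar (hf₀ : f₀ ≠ 0) (l : K) (hl : l ≠ 0) (c : F) : ∃ k : K, f₀ (k * l) = c := by
  obtain ⟨k, hk⟩ := DFunLike.ne_iff.1 hf₀
  rw [LinearMap.zero_apply] at hk
  refine ⟨(c * (f₀ k)⁻¹) • k * l⁻¹, ?_⟩
  rw [mul_assoc, inv_mul_cancel₀ hl, mul_one, map_smul, smul_eq_mul, mul_assoc, inv_mul_cancel₀ hk, mul_one]

variable (h : Setting B φ f₀ M)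
include h

theorem Setting.line_isotropic {a x y : V} (hx : x ∈ line F K a) (hy : y ∈ line F K a) : B x y = 0 := by
  obtain ⟨k, rfl⟩ := mem_line.1 hx
  obtain ⟨l, rfl⟩ := mem_line.1 hy
  simp [h.eq, h.altK a]

theorem Setting.image_isotropic {g : V ≃ₗ[F] V} (hg : g ∈ M) {a x y : V}
    (hx : x ∈ (line F K a).map g.toLinearMap) (hy : y ∈ (line F K a).map g.toLinearMap) : B x y = 0 := by
  obtain ⟨x', hx', rfl⟩ := hx
  obtain ⟨y', hy', rfl⟩ := hy
  rw [LinearEquiv.coe_coe, h.isom g hg]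
  exact h.line_isotropic hx' hy'

theorem Setting.perp_of_phi {x z : V} (hxz : φ x z = 0) {w : V} (hw : w ∈ line F K z) : B x w = 0 := by
  obtain ⟨l, rfl⟩ := mem_line.1 hw
  simp [h.eq, hxz]

theorem Setting.phi_of_perp {x z : V} (hxz : ∀ w ∈ line F K z, B x w = 0) : φ x z = 0 := by
  by_contra hne
  obtain ⟨k, hk⟩ := exists_scalar h.ne_zero _ hne (1 : F)
  have := hxz _ (smul_mem_line z k)
  rw [h.eq, map_smul, smul_eq_mul, hk] at this
  exact one_ne_zero this

/-- A vector with prescribed pairings. -/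
theorem Setting.exists_partner {S : Submodule F V} {v : V} (hv : v ∉ S) :
    ∃ x, (∀ s ∈ S, B s x = 0) ∧ B v x = 1 := by
  haveI : FiniteDimensional F V := FiniteDimensional.trans F K V
  obtain ⟨χ, hχv, hχS⟩ := Submodule.exists_dual_map_eq_bot_of_notMem hv inferInstance
  have hN : LinearMap.BilinForm.Nondegenerate B := h.nondeg
  obtain ⟨x, hx⟩ : ∃ x, ∀ s, B x s = χ s := ⟨(LinearMap.BilinForm.toDual B hN).symm χ, fun s =>
    LinearMap.BilinForm.apply_toDual_symm_apply χ s⟩
  refine ⟨(-(χ v)⁻¹) • x, fun s hs => ?_, ?_⟩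
  · have : χ s ∈ S.map χ := ⟨s, hs, rfl⟩
    rw [hχS, Submodule.mem_bot] at this
    rw [map_smul, alt_swap h.alt, hx, this, neg_zero, smul_zero]
  · rw [map_smul, alt_swap h.alt, hx, smul_eq_mul]
    field_simp

/-- Elements of `M` acting on `g L_a` as translations along the line of `g a`. -/
theorem Setting.exists_translate {P : Submodule F V} {z : V} {y₀ : V} (hy₀ : y₀ ∈ P)
    (hy₀' : y₀ ∉ line F K z) :
    ∃ y₂ ∈ P, y₂ ∉ line F K z ∧ ∃ ψ : V →ₗ[K] K, ψ z = 0 ∧ ψ y₂ = 1 ∧
      ∀ l : K, ∃ t ∈ M, t z = z ∧ ∀ x ∈ P, t x = x + (ψ x * l) • z := by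
  by_cases hW : ∀ x ∈ P, φ x z = 0
  · have hz : y₀ ∉ (K ∙ z : Submodule K V) := hy₀'
    obtain ⟨χ, hχy, hχz⟩ := Submodule.exists_dual_map_eq_bot_of_notMem hz inferInstance
    have hN : LinearMap.BilinForm.Nondegenerate φ := h.nondegK
    obtain ⟨c, hc⟩ : ∃ c, ∀ s, φ c s = χ s := ⟨(LinearMap.BilinForm.toDual φ hN).symm χ, fun s =>
      LinearMap.BilinForm.apply_toDual_symm_apply χ s⟩
    have hcz : φ c z = 0 := by
      rw [hc]
      have := Submodule.mem_map_of_mem (f := χ) (Submodule.mem_span_singleton_self z)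
      rwa [hχz, Submodule.mem_bot] at this
    refine ⟨y₀, hy₀, hy₀', (χ y₀)⁻¹ • χ, by simp [← hc, hcz], by simp [hχy], fun l => ?_⟩
    set c' := (-(χ y₀)⁻¹ * l) • c with hc'
    have hcz' : φ c' z = 0 := by simp [hc', hcz]
    refine ⟨_, h.sp (sv h.altK c' z 1), ?_, fun x hx => ?_⟩
    · show (sv h.altK c' z 1).1 z = z
      rw [sv_apply h.altK hcz', h.altK z, alt_swap h.altK z c', hcz']
      simp
    · show (sv h.altK c' z 1).1 x = _
      rw [sv_apply h.altK hcz', hW x hx, zero_smul, add_zero, one_smul, alt_swap h.altK x c']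
      simp only [hc', map_smul, LinearMap.smul_apply, hc, smul_eq_mul]
      congr 2
      ring
  · push Not at hW
    obtain ⟨y₂, hy₂, hne⟩ := hW
    refine ⟨y₂, hy₂, fun hmem => ?_, (φ y₂ z)⁻¹ • φ.flip z, by simp [h.altK z], by simp [hne], fun l => ?_⟩
    · obtain ⟨k, rfl⟩ := mem_line.1 hmem
      exact hne (by simp [h.altK z])
    refine ⟨_, h.sp (tv h.altK z ((φ y₂ z)⁻¹ * l)), ?_, fun x _ => ?_⟩
    · show (tv h.altK z _).1 z = z
      simp [h.altK z]
    · show (tv h.altK z _).1 x = _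
      rw [tv_apply]
      congr 2
      simp
      ring

theorem Setting.exists_config (hr : (finrank F K).Prime) {g : V ≃ₗ[F] V} (hg : g ∈ M) {a : V}
    (hne : ∃ k : K, g (k • a) ∉ line F K (g a)) :
    ∃ g ∈ M, ∃ a : V, (∃ k : K, g (k • a) ∉ line F K (g a)) ∧
      finrank F K ≤ finrank F ↥((line F K a).map g.toLinearMap ⊓ line F K (g a)) + 1 := by
  haveI : FiniteDimensional F V := FiniteDimensional.trans F K V
  suffices H : ∀ n : ℕ, ∀ g : V ≃ₗ[F] V, g ∈ M → ∀ a : V, (∃ k : K, g (k • a) ∉ line F K (g a)) →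
      finrank F K ≤ finrank F ↥((line F K a).map g.toLinearMap ⊓ line F K (g a)) + (n + 1) →
      ∃ g ∈ M, ∃ a : V, (∃ k : K, g (k • a) ∉ line F K (g a)) ∧
        finrank F K ≤ finrank F ↥((line F K a).map g.toLinearMap ⊓ line F K (g a)) + 1 from
    H (finrank F K) g hg a hne (by omega)
  clear hne hg a g
  intro n
  induction n with
  | zero => intro g hg a hne hd; exact ⟨g, hg, a, hne, hd⟩
  | succ n ih =>
    intro g hg a hne hd
    by_cases hbig : finrank F K ≤ finrank F ↥((line F K a).map g.toLinearMap ⊓ line F K (g a)) + 1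
    · exact ⟨g, hg, a, hne, hbig⟩
    obtain ⟨k, hk⟩ := hne
    have ha : a ≠ 0 := by rintro rfl; simp at hk
    have hga : g a ≠ 0 := fun h => ha (g.injective (h.trans (map_zero g).symm))
    set z := g a with hz
    set P := (line F K a).map g.toLinearMap with hP
    set L := line F K z with hL
    set D := P ⊓ L with hD
    have hzP : z ∈ P := ⟨a, self_mem_line a, rfl⟩
    have hPfin : finrank F P = finrank F K := (LinearEquiv.finrank_map_eq g _).trans (finrank_line ha)
    obtain ⟨y₂, hy₂P, hy₂L, ψ, hψz, hψ₂, hT⟩ :=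
      h.exists_translate (P := P) (z := z) (y₀ := g (k • a)) ⟨k • a, smul_mem_line a k, rfl⟩ hk
    obtain ⟨y₃, hy₃P, hy₃⟩ : ∃ y₃ ∈ P, y₃ ∉ D ⊔ F ∙ y₂ := by
      refine SetLike.not_le_iff_exists.1 fun hle => hbig ?_
      have h1 := Submodule.finrank_mono hle
      have h2 := Submodule.finrank_add_le_finrank_add_finrank D (F ∙ y₂)
      have h3 : finrank F (F ∙ y₂ : Submodule F V) ≤ 1 := by
        rcases eq_or_ne y₂ 0 with h0 | h0
        · rw [h0, Submodule.span_singleton_eq_bot.2 rfl, finrank_bot]; omega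
        · exact (finrank_span_singleton h0).le
      omega
    have hzD : z ∈ D := ⟨hzP, self_mem_line z⟩
    have hψL : ∀ x ∈ L, ψ x = 0 := by
      intro x hx; obtain ⟨l, rfl⟩ := mem_line.1 hx; simp [hψz]
    obtain ⟨l, x₁, x₂, hx₁P, hx₁D, hx₁t, hx₂P, hx₂t⟩ : ∃ (l : K) (x₁ x₂ : V), x₁ ∈ P ∧ x₁ ∉ D ∧
        (ψ x₁ * l) • z ∈ P ∧ x₂ ∈ P ∧ (ψ x₂ * l) • z ∉ P := by
      by_cases hc : ∃ c : F, algebraMap F K c = ψ y₃
      · obtain ⟨c, hc⟩ := hc
        obtain ⟨l, hl⟩ : ∃ l : K, l • z ∉ P := by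
          by_contra hall
          push Not at hall
          have h1 : L ≤ P := line_le_iff.2 hall
          have h2 := Submodule.eq_of_le_of_finrank_le h1 (by rw [hPfin, hL, finrank_line hga])
          exact hy₂L (h2.ge hy₂P)
        refine ⟨l, y₃ - c • y₂, y₂, P.sub_mem hy₃P (P.smul_mem c hy₂P), fun hmem => hy₃ ?_, ?_, hy₂P, ?_⟩
        · exact Submodule.mem_sup.2 ⟨_, hmem, c • y₂, Submodule.smul_mem _ _
            (Submodule.mem_span_singleton_self y₂), sub_add_cancel _ _⟩
        · rw [map_sub, LinearMap.map_smul_of_tower, hψ₂, ← hc, Algebra.algebraMap_eq_smul_one, sub_self,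
            zero_mul, zero_smul]
          exact P.zero_mem
        · rwa [hψ₂, one_mul]
      · push Not at hc
        obtain ⟨d, hdD, hdnot⟩ : ∃ d ∈ D, ψ y₃ • d ∉ D := by
          by_contra hall
          push Not at hall
          have hle : L ≤ D := line_le_iff.2 fun l => smul_mem_of_stable hr hc hall l hzD
          have h1 := Submodule.finrank_mono hle
          rw [hL, finrank_line hga] at h1
          omega
        obtain ⟨l, rfl⟩ := mem_line.1 hdD.2
        refine ⟨l, y₂, y₃, hy₂P, fun h => hy₂L h.2, by rw [hψ₂, one_mul]; exact hdD.1, hy₃P, fun hmem => hdnot ?_⟩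
        rw [smul_smul]
        exact ⟨hmem, smul_mem_line z _⟩
    obtain ⟨t, ht, htz, htx⟩ := hT l
    have hg' : g⁻¹ * t * g ∈ M := mul_mem (mul_mem (inv_mem hg) ht) hg
    have e : (g⁻¹ * t * g) a = a := by
      show g.symm (t (g a)) = a
      rw [← hz, htz, hz, g.symm_apply_apply]
    refine ih (g⁻¹ * t * g) hg' a ?_ ?_
    · obtain ⟨w, hw, hw'⟩ := id hx₂P
      obtain ⟨j, rfl⟩ := mem_line.1 hw
      refine ⟨j, fun hmem => hx₂t ?_⟩
      rw [e] at hmem
      change g.symm (t (g (j • a))) ∈ line F K a at hmem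
      change g (j • a) = x₂ at hw'
      rw [hw', htx x₂ hx₂P] at hmem
      have hmem' : x₂ + (ψ x₂ * l) • z ∈ P := ⟨_, hmem, g.apply_symm_apply _⟩
      simpa using P.sub_mem hmem' hx₂P
    · have hle : (D ⊔ F ∙ (x₁ + (ψ x₁ * l) • z)).map g.symm.toLinearMap ≤
          (line F K a).map (g⁻¹ * t * g).toLinearMap ⊓ line F K ((g⁻¹ * t * g) a) := by
        have key : ∀ x ∈ P, t x ∈ P →
            g.symm (t x) ∈ (line F K a).map (g⁻¹ * t * g).toLinearMap ⊓ line F K ((g⁻¹ * t * g) a) := by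
          rintro _ ⟨w, hw, rfl⟩ ⟨w', hw', hw''⟩
          refine ⟨⟨w, hw, rfl⟩, ?_⟩
          rw [e]
          change g w' = t (g w) at hw''
          show g.symm (t (g w)) ∈ _
          rw [← hw'', g.symm_apply_apply]
          exact hw'
        rw [Submodule.map_sup, sup_le_iff]
        refine ⟨?_, ?_⟩
        · rintro _ ⟨x, hx, rfl⟩
          have hfix : t x = x := by rw [htx x hx.1, hψL x hx.2, zero_mul, zero_smul, add_zero]
          have := key x hx.1 (by rw [hfix]; exact hx.1)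
          rwa [hfix] at this
        · rw [Submodule.map_span, Set.image_singleton, Submodule.span_singleton_le_iff_mem, ← htx x₁ hx₁P]
          exact key x₁ hx₁P (by rw [htx x₁ hx₁P]; exact P.add_mem hx₁P hx₁t)
      have h1 := Submodule.finrank_mono hle
      rw [LinearEquiv.finrank_map_eq] at h1
      have h2 : finrank F D < finrank F ↥(D ⊔ F ∙ (x₁ + (ψ x₁ * l) • z)) := Submodule.finrank_lt_finrank_of_lt
        (lt_of_le_of_ne le_sup_left fun e' => hx₁D (by
          have hm' : x₁ + (ψ x₁ * l) • z ∈ D := by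
            rw [e']; exact Submodule.mem_sup_right (Submodule.mem_span_singleton_self _)
          refine ⟨hx₁P, ?_⟩
          simpa using L.sub_mem hm'.2 (smul_mem_line z (ψ x₁ * l))))
      omega

end CfsgLib.Classical.FieldExtSymp
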