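import Cfsg.Agent.Lib.Classical.FieldExtSymp.Basic

/-!
# A transvection from a configuration
-/

set_option autoImplicit false
set_option linter.unusedSectionVars false

namespace CfsgLib.Classical.FieldExtSymp

open Module CfsgLib.Classical CfsgLib.Classical.FieldExtMax

variable {F K V : Type*} [Field F] [Field K] [Algebra F K] [AddCommGroup V] [Module F V] [Module K V]
  [IsScalarTower F K V] [FiniteDimensional F K] [FiniteDimensional K V]
  {B : V →ₗ[F] V →ₗ[F] F} {φ : V →ₗ[K] V →ₗ[K] K} {f₀ : K →ₗ[F] F} {M : Subgroup (V ≃ₗ[F] V)}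

/-- The symmetric product of two vectors as a map. -/
def sym (B : V →ₗ[F] V →ₗ[F] F) (u v : V) : V →ₗ[F] V := (B u).smulRight v + (B v).smulRight u

theorem sym_apply (u v x : V) : sym B u v x = B u x • v + B v x • u := rfl

variable (h : Setting B φ f₀ M)
include h

theorem Setting.sym_kills {u v x : V} (hu : B u x = 0) (hv : B v x = 0) : sym B u v x = 0 := by
  simp [sym_apply, hu, hv]

/-- A self-adjoint map with image in a line and vanishing diagonal is composed of symmetric products. -/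
theorem Setting.has_of_diag_zero {z : V} (hsym : ∀ u ∈ line F K z, ∀ v ∈ line F K z, Has M (sym B u v))
    (A : V →ₗ[F] V) (hA : ∀ x, A x ∈ line F K z) (hAs : ∀ x y, B (A x) y = B (A y) x)
    (hA0 : ∀ x, B (A x) x = 0) : Has M A := by
  classical
  haveI : FiniteDimensional F V := FiniteDimensional.trans F K V
  set L := line F K z with hL
  let b := Module.finBasis F L
  have hex : ∀ i, ∃ x, (∀ j, j ≠ i → B (b j : V) x = 0) ∧ B (b i : V) x = 1 := by
    intro i
    have hli : LinearIndependent F (fun j => (b j : V)) := b.linearIndependent.map' L.subtype L.ker_subtype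
    obtain ⟨x, hx, hx1⟩ := h.exists_partner (S := Submodule.span F ((fun j => (b j : V)) '' {j | j ≠ i}))
      (hli.notMem_span_image (x := i) (s := {j | j ≠ i}) (by simp))
    exact ⟨x, fun j hj => hx _ (Submodule.subset_span ⟨j, hj, rfl⟩), hx1⟩
  choose X hX using hex
  have hexp : ∀ u ∈ L, u = ∑ j, B u (X j) • (b j : V) := by
    intro u hu
    have h1 := congrArg Subtype.val (b.sum_repr ⟨u, hu⟩)
    simp only [Submodule.coe_sum, Submodule.coe_smul] at h1
    have hc : ∀ j, B u (X j) = b.repr ⟨u, hu⟩ j := fun j => by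
      conv_lhs => rw [← h1]
      simp only [map_sum, map_smul, LinearMap.sum_apply, LinearMap.smul_apply, smul_eq_mul]
      rw [Finset.sum_eq_single j (fun i _ hi => by rw [(hX j).1 i hi, mul_zero])
        (fun hn => absurd (Finset.mem_univ j) hn), (hX j).2, mul_one]
    simp only [hc]
    exact h1.symm
  set c : Fin (finrank F L) → Fin (finrank F L) → F := fun i j => B (A (X i)) (X j) with hc
  let G : Finset (Fin (finrank F L)) → (V →ₗ[F] V) :=
    fun s => ∑ i ∈ s, ∑ j ∈ s, c i j • (B (b i : V)).smulRight (b j : V)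
  have hG : ∀ s, Has M (G s) := by
    intro s
    induction s using Finset.induction with
    | empty => exact Has.zero.congr fun x => by simp [G]
    | insert a s ha ih =>
      set w : V := ∑ j ∈ s, c a j • (b j : V) with hw
      have hwL : w ∈ L := Submodule.sum_mem _ fun j _ => L.smul_mem _ (b j).2
      refine (ih.add (hsym _ (b a).2 w hwL) fun x => ?_).congr fun x => ?_
      · simp only [G, LinearMap.sum_apply, LinearMap.smul_apply, LinearMap.smulRight_apply]
        refine Finset.sum_eq_zero fun i _ => Finset.sum_eq_zero fun j _ => ?_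
        have hmem : sym B (b a : V) w x ∈ L := L.add_mem (L.smul_mem _ hwL) (L.smul_mem _ (b a).2)
        rw [h.line_isotropic (b i).2 hmem, zero_smul, smul_zero]
      · have haa : c a a = 0 := hA0 _
        have hcs : ∀ i, c i a = c a i := fun i => hAs _ _
        simp only [G, LinearMap.add_apply, LinearMap.sum_apply, LinearMap.smul_apply, LinearMap.smulRight_apply,
          sym_apply, Finset.sum_insert ha, haa, hcs, hw, map_sum, map_smul, Finset.sum_add_distrib,
          Finset.smul_sum, Finset.sum_smul, smul_comm (c a _), smul_eq_mul, mul_smul, zero_smul, zero_add]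
        abel
  refine (hG Finset.univ).congr fun x => ?_
  simp only [G, LinearMap.sum_apply, LinearMap.smul_apply, LinearMap.smulRight_apply, smul_smul]
  rw [Finset.sum_comm]
  conv_rhs => rw [hexp _ (hA x)]
  refine Finset.sum_congr rfl fun j _ => ?_
  rw [← Finset.sum_smul]
  congr 1
  rw [hAs x (X j)]
  conv_rhs => rw [hexp _ (hA (X j))]
  simp only [map_sum, map_smul, LinearMap.sum_apply, LinearMap.smul_apply, smul_eq_mul]
  exact Finset.sum_congr rfl fun i _ => by simp only [hc]; rw [hAs (X i) (X j)]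

theorem Setting.exists_transvection [Finite F] {g : V ≃ₗ[F] V} (hg : g ∈ M) {a : V}
    (hne : ∃ k : K, g (k • a) ∉ line F K (g a))
    (hbig : finrank F K ≤ finrank F ↥((line F K a).map g.toLinearMap ⊓ line F K (g a)) + 1)
    (hcond : (∀ x ∈ line F K a, ∀ w ∈ line F K (g a), B (g x) w = 0) ∨ 3 ≤ finrank F K) :
    ∃ z : V, z ≠ 0 ∧ ∃ c : F, c ≠ 0 ∧ Has M ((c • B.flip z).smulRight z) := by
  haveI : FiniteDimensional F V := FiniteDimensional.trans F K V
  haveI : Finite K := Module.finite_of_finite F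
  obtain ⟨k₀, hk₀⟩ := hne
  have ha : a ≠ 0 := by rintro rfl; simp at hk₀
  set z := g a with hz
  have hz0 : z ≠ 0 := fun e => ha (g.injective (e.trans (map_zero g).symm))
  refine ⟨z, hz0, ?_⟩
  set P := (line F K a).map g.toLinearMap with hP
  set L := line F K z with hL
  set D := P ⊓ L with hD
  have hPfin : finrank F P = finrank F K := (LinearEquiv.finrank_map_eq g _).trans (finrank_line ha)
  have hzD : z ∈ D := ⟨⟨a, self_mem_line a, rfl⟩, self_mem_line z⟩
  have hPP : ∀ x ∈ P, ∀ y ∈ P, B x y = 0 := fun x hx y hy => h.image_isotropic hg hx hy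
  have hLL : ∀ x ∈ L, ∀ y ∈ L, B x y = 0 := fun x hx y hy => h.line_isotropic hx hy
  obtain ⟨y₂, hy₂P, hy₂L, ψ, hψz, hψ₂, hT⟩ :=
    h.exists_translate (P := P) (z := z) (y₀ := g (k₀ • a)) ⟨k₀ • a, smul_mem_line a k₀, rfl⟩ hk₀
  have hψL : ∀ x ∈ L, ψ x = 0 := by
    intro x hx; obtain ⟨l, rfl⟩ := mem_line.1 hx; simp [hψz]
  have hbig' : finrank F P ≤ finrank F D + 1 := by rw [hPfin]; exact hbig
  have hdec : ∀ x ∈ P, ∃ c : F, x - c • y₂ ∈ D := fun x hx =>
    exists_of_hyperplane inf_le_left hy₂P (fun hm => hy₂L hm.2) hbig' x hx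
  obtain ⟨x₀, hx₀D, hx₀y⟩ := h.exists_partner (S := D) (v := y₂) fun hm => hy₂L hm.2
  set lam := φ (g.symm x₀) a with hlam
  have hlam0 : lam ≠ 0 := by
    intro h0
    obtain ⟨w, hw, hwy⟩ := id hy₂P
    obtain ⟨κ, rfl⟩ := mem_line.1 hw
    rw [← hwy, LinearEquiv.coe_coe, ← h.isom _ (inv_mem hg)] at hx₀y
    change B (g.symm (g (κ • a))) (g.symm x₀) = 1 at hx₀y
    rw [g.symm_apply_apply, h.eq, map_smul, LinearMap.smul_apply, alt_swap h.altK, ← hlam, h0, neg_zero,
      smul_zero, map_zero] at hx₀y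
    exact zero_ne_one hx₀y
  obtain ⟨k, hk⟩ := exists_scalar h.ne_zero (-(lam * lam)) (neg_ne_zero.2 (mul_ne_zero hlam0 hlam0)) (1 : F)
  set Q : V →ₗ[F] V := g.toLinearMap ∘ₗ ((k • φ.flip a).smulRight a).restrictScalars F ∘ₗ g.symm.toLinearMap with hQ
  have hQM : Has M Q := by
    have h0 : Has M (((k • φ.flip a).smulRight a).restrictScalars F) :=
      ⟨_, h.sp (tv h.altK a k), fun x => by
        show (tv h.altK a k).1 x = _
        rw [tv_apply]; rfl⟩
    exact h0.conj hg
  have hQx : ∀ x, Q x = g ((k * φ (g.symm x) a) • a) := fun x => rfl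
  have hQP : ∀ x, Q x ∈ P := fun x => ⟨_, smul_mem_line a _, rfl⟩
  have hinv : ∀ x y, B (g x) y = B x (g.symm y) := fun x y => by
    rw [← h.isom g hg x, g.apply_symm_apply]
  have hQs : ∀ x y, B (Q x) y = B (Q y) x := fun x y => by
    rw [hQx, hQx, hinv, hinv, h.eq, h.eq]
    congr 1
    simp only [map_smul, LinearMap.smul_apply, smul_eq_mul]
    rw [alt_swap h.altK a (g.symm y), alt_swap h.altK a (g.symm x)]
    ring
  set q := Q x₀ with hq
  have hqP : q ∈ P := hQP x₀
  have hqx₀ : B q x₀ = 1 := by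
    rw [hq, hQx, hinv, h.eq]
    simp only [map_smul, LinearMap.smul_apply]
    rw [alt_swap h.altK a, ← hlam, smul_eq_mul, ← hk]
    congr 1; ring
  have hcoef : ∀ x ∈ P, x - B x x₀ • y₂ ∈ D := fun x hx => by
    obtain ⟨c, hc⟩ := hdec x hx
    have h1 := hx₀D _ hc
    rw [map_sub, LinearMap.sub_apply, map_smul, LinearMap.smul_apply, hx₀y, smul_eq_mul, mul_one, sub_eq_zero] at h1
    rwa [h1]
  have hqy : q - y₂ ∈ D := by simpa [hqx₀] using hcoef q hqP
  have hψq : ψ q = 1 := by
    have h1 := hψL _ hqy.2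
    rwa [map_sub, hψ₂, sub_eq_zero] at h1
  set R : V →ₗ[F] V := Q - (B q).smulRight q with hR
  have hRx : ∀ x, R x = Q x - B q x • q := fun x => rfl
  have hQR : ∀ x, Q x = B q x • q + R x := fun x => by rw [hRx]; abel
  have hRD : ∀ x, R x ∈ D := fun x => by
    have h1 := hcoef _ (hQP x)
    rw [hQs, ← hq] at h1
    rw [hRx, show Q x - B q x • q = (Q x - B q x • y₂) - B q x • (q - y₂) by module]
    exact D.sub_mem h1 (D.smul_mem _ hqy)
  have hRs : ∀ x y, B (R x) y = B (R y) x := fun x y => by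
    simp only [hRx, map_sub, LinearMap.sub_apply, map_smul, LinearMap.smul_apply, smul_eq_mul, hQs x y]
    ring
  have hN : ∀ x, (∀ y, B x y = 0) → x = 0 := h.nondeg.1
  -- conjugates of `Q`
  let W : Submodule F V := L ⊓ LinearMap.ker (B q)
  have hDW : ∀ x ∈ D, x ∈ W := fun x hx => ⟨hx.2, hPP q hqP x hx.1⟩
  let Qw : V → (V →ₗ[F] V) := fun w => (B (q + w)).smulRight (q + w) + R
  have hRkill : ∀ u, (∀ d ∈ D, B d u = 0) → R u = 0 := fun u hu => hN _ fun y => by
    rw [hRs]; exact hu _ (hRD y)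
  have hzero : ∀ w ∈ W, ∀ w' ∈ W, ∀ x, Qw w (Qw w' x) = 0 := by
    intro w hw w' hw' x
    have hS : ∀ u, B q u = 0 → B w u = 0 → (∀ d ∈ D, B d u = 0) → Qw w u = 0 := fun u h1 h2 h3 => by
      simp [Qw, h1, h2, hRkill u h3]
    have hd := hDW _ (hRD x)
    have hwq : B w q = 0 := by rw [alt_swap h.alt, show B q w = 0 from hw.2, neg_zero]
    refine hS _ ?_ ?_ fun d hd' => ?_
    · simp [Qw, h.alt q, show B q w' = 0 from hw'.2, show B q (R x) = 0 from hd.2]
    · simp [Qw, hwq, hLL w hw.1 w' hw'.1, hLL w hw.1 (R x) hd.1]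
    · simp [Qw, hPP d hd'.1 q hqP, hLL d hd'.2 w' hw'.1, hLL d hd'.2 (R x) hd.1]
  have hQw : ∀ w ∈ W, Has M (Qw w) := by
    intro w hw
    obtain ⟨l, rfl⟩ := mem_line.1 hw.1
    obtain ⟨t, ht, htz, htx⟩ := hT l
    refine (hQM.conj ht).congr fun x => ?_
    obtain ⟨y, rfl⟩ := t.surjective x
    have hfix : ∀ d ∈ D, t d = d := fun d hd => by rw [htx d hd.1, hψL d hd.2, zero_mul, zero_smul, add_zero]
    have htq : t q = q + l • z := by rw [htx q hqP, hψq, one_mul]
    have hRt : R (t y) = R y := by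
      refine sub_eq_zero.1 (hN _ fun v => ?_)
      rw [map_sub, LinearMap.sub_apply, hRs, hRs y]
      conv_lhs => arg 1; rw [← hfix _ (hRD v), h.isom t ht]
      rw [sub_self]
    show t (Q (t.symm (t y))) = _
    simp only [t.symm_apply_apply, Qw, LinearMap.add_apply, LinearMap.smulRight_apply]
    rw [hQR y, map_add, map_smul, htq, hfix _ (hRD y), hRt]
    congr 2
    rw [← htq, ← h.isom t ht q y]
  have hsymW : ∀ u ∈ W, ∀ v ∈ W, Has M (sym B u v) := by
    intro u hu v hv
    have huv := W.add_mem hu hv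
    have h1 : Has M (Qw (u + v) + -Qw u) := (hQw _ huv).add ((hQw u hu).neg (hzero u hu u hu)) fun x => by
      simp [hzero _ huv u hu]
    have h2 : Has M (Qw (u + v) + -Qw u + -Qw v) := h1.add ((hQw v hv).neg (hzero v hv v hv)) fun x => by
      simp [hzero _ huv v hv, hzero u hu v hv]
    have h3 := h2.add (hQw 0 W.zero_mem) fun x => by
      simp [hzero _ huv 0 W.zero_mem, hzero u hu 0 W.zero_mem, hzero v hv 0 W.zero_mem]
    refine h3.congr fun x => ?_
    simp only [Qw, sym_apply, LinearMap.add_apply, LinearMap.neg_apply, LinearMap.smulRight_apply, map_add,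
      map_zero, add_zero, LinearMap.zero_apply]
    module
  by_cases h2 : (2 : F) = 0
  swap
  · refine ⟨-2, neg_ne_zero.2 h2, (hsymW z (hDW z hzD) z (hDW z hzD)).congr fun x => ?_⟩
    simp only [sym_apply, LinearMap.smulRight_apply, LinearMap.smul_apply, LinearMap.flip_apply,
      alt_swap h.alt x z, smul_eq_mul]
    module
  refine ⟨1, one_ne_zero, ?_⟩
  have hsymL : ∀ u ∈ L, ∀ v ∈ L, Has M (sym B u v) := by
    intro u hu v hv
    obtain ⟨l, hl, hlu, hlv⟩ : ∃ l : K, l ≠ 0 ∧ l • u ∈ W ∧ l • v ∈ W := by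
      obtain ⟨i, hi⟩ := mem_line.1 hu
      obtain ⟨j, hj⟩ := mem_line.1 hv
      have hL' : ∀ l : K, l • u ∈ L ∧ l • v ∈ L := fun l =>
        ⟨by rw [← hi, smul_smul]; exact smul_mem_line z _, by rw [← hj, smul_smul]; exact smul_mem_line z _⟩
      rcases hcond with hc | hc
      · obtain ⟨x, hx, hxq⟩ := id hqP
        refine ⟨1, one_ne_zero, ⟨(hL' 1).1, ?_⟩, ⟨(hL' 1).2, ?_⟩⟩ <;>
          · show B q _ = 0
            rw [← hxq, one_smul]
            exact hc x hx _ (by assumption)
      · let Φ : K →ₗ[F] F × F := (B q ∘ₗ (LinearMap.toSpanSingleton K V u).restrictScalars F).prod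
          (B q ∘ₗ (LinearMap.toSpanSingleton K V v).restrictScalars F)
        have h1 := LinearMap.finrank_range_add_finrank_ker Φ
        have h2' : finrank F (LinearMap.range Φ) ≤ 2 :=
          (Submodule.finrank_le _).trans (by rw [Module.finrank_prod, finrank_self])
        obtain ⟨⟨l, hl⟩, hne⟩ := finrank_pos_iff_exists_ne_zero.1 (show 0 < finrank F (LinearMap.ker Φ) by omega)
        rw [LinearMap.mem_ker] at hl
        exact ⟨l, fun e => hne (Subtype.ext e), ⟨(hL' l).1, congrArg Prod.fst hl⟩,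
          ⟨(hL' l).2, congrArg Prod.snd hl⟩⟩
    obtain ⟨e, -, he⟩ := tv_transitive h.altK h.nondegK.1 hz0 (smul_ne_zero (inv_ne_zero hl) hz0)
    have heL : ∀ w ∈ L, e.1 (l • w) = w := by
      intro w hw
      obtain ⟨i, rfl⟩ := mem_line.1 hw
      rw [map_smul, map_smul, he, smul_smul, smul_smul, mul_assoc, mul_comm i, ← mul_assoc,
        mul_inv_cancel₀ hl, one_mul]
    refine ((hsymW _ hlu _ hlv).conj (h.sp e)).congr fun x => ?_
    obtain ⟨y, rfl⟩ := (e.1.restrictScalars F).surjective x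
    show e.1.restrictScalars F (sym B (l • u) (l • v) ((e.1.restrictScalars F).symm _)) = _
    rw [LinearEquiv.symm_apply_apply, sym_apply, sym_apply, (e.1.restrictScalars F).map_add,
      (e.1.restrictScalars F).map_smul, (e.1.restrictScalars F).map_smul]
    have hu' : (e.1.restrictScalars F) (l • u) = u := heL u hu
    have hv' : (e.1.restrictScalars F) (l • v) = v := heL v hv
    conv_rhs => arg 1; arg 1; rw [← hu', h.isom _ (h.sp e)]
    conv_rhs => arg 2; arg 1; rw [← hv', h.isom _ (h.sp e)]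
    rw [hu', hv']
  haveI : CharP F 2 := CharTwo.of_one_ne_zero_of_two_eq_zero one_ne_zero h2
  haveI : CharP K 2 := charP_of_injective_algebraMap (algebraMap F K).injective 2
  haveI : Fintype F := Fintype.ofFinite F
  have hinj : ∀ a b : K, a ^ 2 = b ^ 2 → a = b := fun a b e => (CharTwo.sq_injective (R := K)) e
  have hsurj : ∀ a : K, ∃ b, b ^ 2 = a := fun a => Finite.surjective_of_injective (CharTwo.sq_injective (R := K)) a
  choose s hs using hsurj
  have hsF : ∀ c : F, ∃ d : F, c = d * d := fun c => FiniteField.isSquare_of_char_two (ringChar.eq F 2) c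
  let Λ : K →ₗ[F] F :=
    { toFun := fun μ => f₀ (s μ) ^ 2
      map_add' := fun a b => by
        rw [show s (a + b) = s a + s b from hinj _ _ (by rw [hs, CharTwo.add_sq, hs, hs]), map_add, CharTwo.add_sq]
      map_smul' := fun c a => by
        obtain ⟨d, rfl⟩ := hsF c
        rw [show s ((d * d) • a) = d • s a from hinj _ _ (by rw [hs, smul_pow, hs, sq]), map_smul, RingHom.id_apply,
          smul_eq_mul, smul_eq_mul, mul_pow, sq d] }
  obtain ⟨χ, hχ⟩ := exists_lift (V := K) h.ne_zero Λ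
  set k₁ := χ 1 with hk₁
  have hΛ : ∀ l, f₀ (k₁ * (l * l)) = f₀ l ^ 2 := fun l => by
    have h1 := hχ (l * l)
    rw [show χ (l * l) = k₁ * (l * l) by
      rw [hk₁, mul_comm (χ 1), ← smul_eq_mul (l * l) (χ 1), ← LinearMap.map_smul χ, smul_eq_mul (l * l) 1,
        mul_one]] at h1
    rw [← h1]
    show f₀ (s (l * l)) ^ 2 = _
    rw [hinj (s (l * l)) l (by rw [hs, sq])]
  let E : V →ₗ[F] V := ((k₁ • φ.flip z).smulRight z).restrictScalars F
  have hE : Has M E := ⟨_, h.sp (tv h.altK z k₁), fun x => by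
    show (tv h.altK z k₁).1 x = _
    rw [tv_apply]; rfl⟩
  let A : V →ₗ[F] V := E - (B.flip z).smulRight z
  have hEL : ∀ x, E x ∈ L := fun x => smul_mem_line z _
  have hAL : ∀ x, A x ∈ L := fun x => L.sub_mem (hEL x) (L.smul_mem _ (self_mem_line z))
  have hBA : ∀ x y, B (A x) y = f₀ (k₁ * φ x z * φ z y) - B x z * B z y := fun x y => by
    simp [A, E, h.eq (_ • z) y]
  have hA : Has M A := h.has_of_diag_zero hsymL A hAL (fun x y => by
      rw [hBA, hBA, alt_swap h.altK z y, alt_swap h.altK z x, alt_swap h.alt z y, alt_swap h.alt z x]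
      congr 1
      · congr 1; ring
      · ring)
    fun x => by
      rw [hBA, alt_swap h.altK z x, alt_swap h.alt z x, mul_neg, map_neg, mul_assoc, hΛ, ← h.eq]
      ring
  have hAE : ∀ w ∈ L, E w = 0 ∧ A w = 0 := fun w hw => by
    have h1 : φ w z = 0 := h.phi_of_perp fun v hv => hLL w hw v hv
    have h3 : B w z = 0 := hLL w hw z (self_mem_line z)
    refine ⟨by simp [E, h1], ?_⟩
    simp [A, E, h1, h3]
  refine (hE.add (hA.neg fun x => (hAE _ (hAL x)).2) fun x => ?_).congr fun x => ?_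
  · rw [LinearMap.neg_apply, map_neg, (hAE _ (hAL x)).1, neg_zero]
  · simp [A]

end CfsgLib.Classical.FieldExtSymp
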