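import Cfsg.Agent.Lib.Classical.FieldExtSymp.Switch
import Cfsg.Agent.Lib.Classical.FieldExtSymp.Transvection

/-!
# All transvections
-/

set_option autoImplicit false
set_option linter.unusedSectionVars false

namespace CfsgLib.Classical.FieldExtSymp

open Module CfsgLib.Classical CfsgLib.Classical.FieldExtMax

variable {F K V : Type*} [Field F] [Field K] [Algebra F K] [AddCommGroup V] [Module F V] [Module K V]
  [IsScalarTower F K V] [FiniteDimensional F K] [FiniteDimensional K V]
  {B : V →ₗ[F] V →ₗ[F] F} {φ : V →ₗ[K] V →ₗ[K] K} {f₀ : K →ₗ[F] F} {M : Subgroup (V ≃ₗ[F] V)}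

theorem Setting.all_transvections [Finite F] (h : Setting B φ f₀ M) (hr : (finrank F K).Prime)
    (hdim : finrank F K = 2 → 4 ≤ finrank K V) {g : V ≃ₗ[F] V} (hg : g ∈ M) {a : V}
    (hne : ∃ k : K, g (k • a) ∉ line F K (g a)) (v : V) (c : F) :
    Has M ((c • B.flip v).smulRight v) := by
  obtain ⟨g', hg', a', hne', hbig, hcond⟩ : ∃ g ∈ M, ∃ a : V, (∃ k : K, g (k • a) ∉ line F K (g a)) ∧
      finrank F K ≤ finrank F ↥((line F K a).map g.toLinearMap ⊓ line F K (g a)) + 1 ∧
      ((∀ x ∈ line F K a, ∀ w ∈ line F K (g a), B (g x) w = 0) ∨ 3 ≤ finrank F K) := by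
    by_cases h2 : finrank F K = 2
    · obtain ⟨g', hg', a', h1, h3, h4⟩ := h.switch h2 (hdim h2) hg hne
      exact ⟨g', hg', a', h1, h3, Or.inl h4⟩
    · obtain ⟨g', hg', a', h1, h3⟩ := h.exists_config hr hg hne
      exact ⟨g', hg', a', h1, h3, Or.inr (by have := hr.two_le; omega)⟩
  obtain ⟨z, hz, c₀, hc₀, hT⟩ := h.exists_transvection hg' hne' hbig hcond
  -- the coefficients occurring along every vector
  have hsq : ∀ (s : F) (v : V), Has M (((s * s * c₀) • B.flip v).smulRight v) := by
    intro s v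
    rcases eq_or_ne (s • v) 0 with h0 | h0
    · refine Has.zero.congr fun x => ?_
      rcases smul_eq_zero.1 h0 with rfl | rfl <;> simp
    obtain ⟨e, -, he⟩ := tv_transitive h.altK h.nondegK.1 hz h0
    refine (hT.conj (h.sp e)).congr fun x => ?_
    obtain ⟨y, rfl⟩ := (e.1.restrictScalars F).surjective x
    have he' : (e.1.restrictScalars F) z = s • v := he
    simp only [LinearMap.comp_apply, LinearEquiv.coe_coe, LinearEquiv.symm_apply_apply, LinearMap.smulRight_apply,
      LinearMap.smul_apply, LinearMap.flip_apply, smul_eq_mul]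
    rw [← h.isom _ (h.sp e) y z, (e.1.restrictScalars F).map_smul, he', map_smul, smul_eq_mul, smul_smul]
    congr 1
    ring
  have hadd : ∀ c d : F, ∀ v : V, Has M ((c • B.flip v).smulRight v) → Has M ((d • B.flip v).smulRight v) →
      Has M (((c + d) • B.flip v).smulRight v) := fun c d v hc hd =>
    (hc.add hd fun x => by simp [h.alt v]).congr fun x => by simp [add_smul, add_mul]
  have hneg : ∀ c : F, ∀ v : V, Has M ((c • B.flip v).smulRight v) → Has M (((-c) • B.flip v).smulRight v) :=
    fun c v hc => (hc.neg fun x => by simp [h.alt v]).congr fun x => by simp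
  by_cases h2 : (2 : F) = 0
  · haveI : CharP F 2 := CharTwo.of_one_ne_zero_of_two_eq_zero one_ne_zero h2
    haveI : Fintype F := Fintype.ofFinite F
    obtain ⟨s, hs⟩ := FiniteField.isSquare_of_char_two (ringChar.eq F 2) (c / c₀)
    have := hsq s v
    rwa [← hs, div_mul_cancel₀ c hc₀] at this
  · set e := c / c₀ with he
    have h1 := hadd _ _ v (hsq ((e + 1) / 2) v) (hneg _ v (hsq ((e - 1) / 2) v))
    rwa [show (e + 1) / 2 * ((e + 1) / 2) * c₀ + -((e - 1) / 2 * ((e - 1) / 2) * c₀) = c by
      rw [he]; field_simp; ring] at h1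

end CfsgLib.Classical.FieldExtSymp
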