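import Cfsg.Prelude.Def_GeometricClasses
import Cfsg.Agent.Lib.Classical.SympMatrix
import Cfsg.Agent.Lib.Classical.FieldExtMax.Matrix
import Cfsg.Agent.Lib.Classical.FieldExtSymp.Main

/-!
# Symplectic groups over extension fields of prime degree are maximal in symplectic groups
-/

set_option autoImplicit false
set_option linter.unusedSectionVars false
set_option backward.isDefEq.respectTransparency false

namespace CfsgLib.Classical.FieldExtSymp

open Module Matrix CfsgLib.Classical CfsgLib.Classical.FieldExtMax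
open scoped MatrixGroups

variable {F : Type*} [Field F] [Fintype F] {m r : ℕ}
  {K : Subalgebra F (Matrix (Fin m ⊕ Fin m) (Fin m ⊕ Fin m) F)}

theorem spGL_isMaximal_of (hm : 1 ≤ m) (hm2 : r = 2 → 4 ≤ m) (hr : r.Prime) (hK : Cfsg.Geo.IsFieldSubalgebra r K)
    (hsa : Cfsg.Geo.IsSelfAdjointFor (Cfsg.sympForm m F) K)
    (halt : ∀ k ∈ K, ∀ v : (Fin m ⊕ Fin m → F), Cfsg.sympForm m F (Matrix.mulVec k v) v = 0) :
    Cfsg.Geo.IsMaximalIn (Cfsg.spGL m F) (Cfsg.Geo.subalgebraNormalizer K ⊓ Cfsg.spGL m F) := by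
  classical
  haveI : Nonempty (Fin m ⊕ Fin m) := ⟨Sum.inl ⟨0, by omega⟩⟩
  have hfield : IsField K := ⟨⟨0, 1, zero_ne_one⟩, fun a b => Subtype.ext (hK.comm _ a.2 _ b.2),
    fun {a} ha => by
      obtain ⟨y, hy, h⟩ := hK.inv a.1 a.2 fun h => ha (Subtype.ext h)
      exact ⟨⟨y, hy⟩, Subtype.ext h⟩⟩
  letI : Field K := hfield.toField
  letI : Module K (Fin m ⊕ Fin m → F) := Module.compHom (Fin m ⊕ Fin m → F)
    ((Matrix.toLinAlgEquiv' : Matrix (Fin m ⊕ Fin m) (Fin m ⊕ Fin m) F ≃ₐ[F] _).toAlgHom.comp K.val).toRingHom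
  have hsmul : ∀ (k : K) (x : Fin m ⊕ Fin m → F), k • x = k.1 *ᵥ x := fun k x =>
    Matrix.toLinAlgEquiv'_apply k.1 x
  haveI : IsScalarTower F K (Fin m ⊕ Fin m → F) := ⟨fun c k x => by
    rw [hsmul, hsmul]
    exact Matrix.smul_mulVec c k.1 x⟩
  haveI : FiniteDimensional F K := Module.finite_of_finrank_pos (by
    have : Module.finrank F K = r := hK.finrank_eq
    rw [this]; exact hr.pos)
  haveI : FiniteDimensional K (Fin m ⊕ Fin m → F) :=
    Module.Finite.of_restrictScalars_finite F K (Fin m ⊕ Fin m → F)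
  have hfin : finrank F K = r := hK.finrank_eq
  set B := sympBil F m with hBdef
  have hA := sympBil_isAlt (F := F) m
  have hN := sympBil_nondegenerate (F := F) m
  have hBk : ∀ (k : K) x y, B (k • x) y = B x (k • y) := fun k x y => by
    rw [sympBil_apply, sympBil_apply, hsmul, hsmul]
    exact hsa k.1 k.2 x y
  have hBalt : ∀ (k : K) x, B x (k • x) = 0 := fun k x => by
    rw [← hBk, sympBil_apply, hsmul]
    exact halt k.1 k.2 x
  obtain ⟨f₀, hf₀'⟩ := exists_f₀ (F := F) (K := K)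
  have hf₀ : f₀ ≠ 0 := fun h => by simp [h] at hf₀'
  have huniq : ∀ a b : K, (∀ l : K, f₀ (l * a) = f₀ (l * b)) → a = b := fun a b h => by
    by_contra hne
    obtain ⟨l, hl⟩ := exists_scalar hf₀ _ (sub_ne_zero.2 hne) (1 : F)
    rw [mul_sub, map_sub, h, sub_self] at hl
    exact zero_ne_one hl
  have hlift : ∀ x, ∃ ψ : (Fin m ⊕ Fin m → F) →ₗ[K] K, ∀ y, B x y = f₀ (ψ y) := fun x => exists_lift hf₀ (B x)
  choose ψ hψ using hlift
  have hψk : ∀ (l : K) x y, f₀ (l * ψ x y) = B x (l • y) := fun l x y => by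
    rw [hψ, map_smul, smul_eq_mul]
  let φ : (Fin m ⊕ Fin m → F) →ₗ[K] (Fin m ⊕ Fin m → F) →ₗ[K] K :=
    { toFun := ψ
      map_add' := fun x x' => LinearMap.ext fun y => huniq _ _ fun l => by
        rw [LinearMap.add_apply, mul_add, map_add, hψk, hψk, hψk, map_add, LinearMap.add_apply]
      map_smul' := fun k x => LinearMap.ext fun y => huniq _ _ fun l => by
        rw [RingHom.id_apply, LinearMap.smul_apply, smul_eq_mul, ← mul_assoc, hψk, hψk, hBk, smul_smul, mul_comm k] }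
  have hφ : ∀ x y, B x y = f₀ (φ x y) := hψ
  have hφA : φ.IsAlt := fun x => huniq _ _ fun l => by
    show f₀ (l * ψ x x) = _
    rw [hψk, hBalt, mul_zero, map_zero]
  have hφN : φ.Nondegenerate :=
    ⟨fun x hx => hN.1 x fun y => by rw [hφ, hx y, map_zero],
      fun y hy => hN.2 y fun x => by rw [hφ, hy x, map_zero]⟩
  have hprod := finrank_mul_finrank F K (Fin m ⊕ Fin m → F)
  rw [hfin, Module.finrank_pi, Fintype.card_sum, Fintype.card_fin] at hprod
  have hdim : 2 ≤ finrank K (Fin m ⊕ Fin m → F) := by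
    obtain ⟨u, hu⟩ := exists_ne (0 : Fin m ⊕ Fin m → F)
    obtain ⟨v, hv⟩ := alt_exists_partner hφN.1 hu
    rw [← finrank_pair hφA hv]
    exact Submodule.finrank_le _
  set N := Cfsg.Geo.subalgebraNormalizer K
  set S := Cfsg.spGL m F
  have hmemS : ∀ e : (Fin m ⊕ Fin m → F) ≃ₗ[F] (Fin m ⊕ Fin m → F),
      linToGL e ∈ S ↔ ∀ x y, B (e x) (e y) = B x y := fun e => by
    refine ⟨fun h x y => ?_, fun h x y => ?_⟩
    · have h1 : Cfsg.sympForm m F ((linToGL e : Matrix _ _ F) *ᵥ x) ((linToGL e : Matrix _ _ F) *ᵥ y) =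
          Cfsg.sympForm m F x y := h x y
      rwa [linToGL_mulVec, linToGL_mulVec, ← sympBil_apply, ← sympBil_apply] at h1
    · show Cfsg.sympForm m F ((linToGL e : Matrix _ _ F) *ᵥ x) ((linToGL e : Matrix _ _ F) *ᵥ y) =
          Cfsg.sympForm m F x y
      rw [linToGL_mulVec, linToGL_mulVec, ← sympBil_apply, ← sympBil_apply]
      exact h x y
  have hsurj : ∀ g : GL (Fin m ⊕ Fin m) F, ∃ e : (Fin m ⊕ Fin m → F) ≃ₗ[F] (Fin m ⊕ Fin m → F),
      linToGL e = g := fun g => by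
    refine ⟨LinearEquiv.ofLinearMap (Matrix.toLin' (g : Matrix _ _ F))
      (Matrix.toLin' ((g⁻¹ : GL (Fin m ⊕ Fin m) F) : Matrix _ _ F))
      (by rw [← Matrix.toLin'_mul, ← Units.val_mul, mul_inv_cancel, Units.val_one, Matrix.toLin'_one])
      (by rw [← Matrix.toLin'_mul, ← Units.val_mul, inv_mul_cancel, Units.val_one, Matrix.toLin'_one]),
      Units.ext (Matrix.ext_iff_mulVec.2 fun x => by rw [linToGL_mulVec]; simp)⟩
  have hsp : ∀ e : isomGroup φ, linToGL (e.1.restrictScalars F) ∈ N ⊓ S := fun e => by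
    refine ⟨FieldExtMax.mem_normalizer_iff.2 fun k => ⟨k, fun x => ?_⟩, (hmemS _).2 fun x y => ?_⟩
    · rw [linToGL_mulVec, linToGL_mulVec, ← hsmul, ← hsmul]
      exact e.1.map_smul k x
    · rw [hφ, hφ]
      exact congrArg f₀ (e.2 x y)
  refine ⟨lt_of_le_not_ge inf_le_right fun hle => ?_, fun M hM hMS => ?_⟩
  · -- a transvection moving a line
    obtain ⟨a, ha⟩ : ∃ a : Fin m ⊕ Fin m → F, a ≠ 0 := exists_ne 0
    obtain ⟨k, hk⟩ : ∃ k : K, k ∉ (⊥ : Subalgebra F K) := by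
      by_contra hall
      push Not at hall
      have h1 : (⊥ : Subalgebra F K) = ⊤ := eq_top_iff.2 fun x _ => hall x
      have h2 := Subalgebra.bot_eq_top_iff_finrank_eq_one.1 h1
      rw [hfin] at h2
      exact hr.one_lt.ne' h2
    have hka : k • a ∉ (F ∙ a : Submodule F (Fin m ⊕ Fin m → F)) := fun hmem => by
      obtain ⟨c, hc⟩ := Submodule.mem_span_singleton.1 hmem
      rw [← algebraMap_smul K c a] at hc
      exact hk (smul_left_injective K ha hc ▸ Subalgebra.algebraMap_mem _ c)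
    let M₀ : Subgroup ((Fin m ⊕ Fin m → F) ≃ₗ[F] (Fin m ⊕ Fin m → F)) := S.comap linToGL
    have hset : Setting B φ f₀ M₀ := ⟨hA, hN, hφA, hφN, hf₀, hφ, fun e he => (hmemS e).1 he,
      fun e => Subgroup.mem_comap.2 (hsp e).2⟩
    obtain ⟨v, hva, hvk⟩ := hset.exists_partner hka
    have hva' : B a v = 0 := hva a (Submodule.mem_span_singleton_self a)
    have hT : linToGL (tv hA v 1).1 ∈ S := (hmemS _).2 (tv hA v 1).2
    obtain ⟨k', hk'⟩ := FieldExtMax.mem_normalizer_iff.1 (hle hT).1 k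
    have h1 := hk' a
    rw [← hsmul, linToGL_mulVec, linToGL_mulVec, tv_apply, tv_apply, hva', hvk, ← hsmul] at h1
    simp only [mul_one, one_smul, mul_zero, zero_smul, add_zero] at h1
    have hv : v = (k' - k) • a := by rw [sub_smul, ← h1]; abel
    rw [hv, hBk, smul_smul, hBalt] at hvk
    exact one_ne_zero hvk.symm
  · by_cases hMN : M ≤ N
    · exact Or.inl (le_antisymm (le_inf hMN hMS) hM)
    refine Or.inr (le_antisymm hMS fun s hs => ?_)
    obtain ⟨g₀, hgM, hgN⟩ := SetLike.not_le_iff_exists.1 hMN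
    obtain ⟨g, rfl⟩ := hsurj g₀
    let M₀ : Subgroup ((Fin m ⊕ Fin m → F) ≃ₗ[F] (Fin m ⊕ Fin m → F)) := M.comap linToGL
    have hset : Setting B φ f₀ M₀ := ⟨hA, hN, hφA, hφN, hf₀, hφ, fun e he => (hmemS e).1 (hMS he),
      fun e => Subgroup.mem_comap.2 (hM (hsp e))⟩
    obtain ⟨a, hne⟩ : ∃ a, ∃ k : K, g (k • a) ∉ line F K (g a) := by
      by_contra hall
      push Not at hall
      refine hgN (FieldExtMax.mem_normalizer_iff.2 fun k => ?_)
      obtain ⟨k', hk'⟩ := semilinear_of_lines hdim g hall k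
      exact ⟨k', fun x => by rw [linToGL_mulVec, linToGL_mulVec, ← hsmul, ← hsmul]; exact hk' x⟩
    obtain ⟨e, rfl⟩ := hsurj s
    let ι : isomGroup B →* GL (Fin m ⊕ Fin m) F := linToGL.comp (isomGroup B).subtype
    have htop : tvGroup hA ≤ M.comap ι := (Subgroup.closure_le _).2 (by
      rintro _ ⟨v, c, rfl⟩
      obtain ⟨t, ht, htx⟩ := hset.all_transvections (hfin ▸ hr) (fun h2 => by
        rw [hfin] at h2; have := hm2 h2; rw [h2] at hprod; omega) (Subgroup.mem_comap.2 hgM) hne v c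
      have e1 : t = (tv hA v c).1 := LinearEquiv.ext fun x => by
        rw [htx, tv_apply]; rfl
      exact Subgroup.mem_comap.2 (show linToGL (tv hA v c).1 ∈ M from e1 ▸ ht))
    exact htop (tvGroup_eq_top hA hN ▸ Subgroup.mem_top (⟨e, (hmemS e).1 hs⟩ : isomGroup B))

theorem spGL_isMaximal (hm : 4 ≤ m) (hr : r.Prime) (hK : Cfsg.Geo.IsFieldSubalgebra r K)
    (hsa : Cfsg.Geo.IsSelfAdjointFor (Cfsg.sympForm m F) K)
    (halt : ∀ k ∈ K, ∀ v : (Fin m ⊕ Fin m → F), Cfsg.sympForm m F (Matrix.mulVec k v) v = 0) :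
    Cfsg.Geo.IsMaximalIn (Cfsg.spGL m F) (Cfsg.Geo.subalgebraNormalizer K ⊓ Cfsg.spGL m F) :=
  spGL_isMaximal_of (by omega) (fun _ => hm) hr hK hsa halt

end CfsgLib.Classical.FieldExtSymp
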