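import Cfsg.Agent.Lib.Classical.FieldExtSymp.Basic

/-!
# Quadratic extensions: a configuration whose two subspaces are orthogonal
-/

set_option autoImplicit false
set_option linter.unusedSectionVars false

namespace CfsgLib.Classical.FieldExtSymp

open Module CfsgLib.Classical CfsgLib.Classical.FieldExtMax

variable {F K V : Type*} [Field F] [Field K] [Algebra F K] [AddCommGroup V] [Module F V] [Module K V]
  [IsScalarTower F K V] [FiniteDimensional F K] [FiniteDimensional K V]
  {B : V →ₗ[F] V →ₗ[F] F} {φ : V →ₗ[K] V →ₗ[K] K} {f₀ : K →ₗ[F] F} {M : Subgroup (V ≃ₗ[F] V)}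

variable (h : Setting B φ f₀ M)
include h

theorem Setting.switch (hr : finrank F K = 2) (hdim : 4 ≤ finrank K V) {g : V ≃ₗ[F] V} (hg : g ∈ M) {a : V}
    (hne : ∃ k : K, g (k • a) ∉ line F K (g a)) :
    ∃ g ∈ M, ∃ a : V, (∃ k : K, g (k • a) ∉ line F K (g a)) ∧
      finrank F K ≤ finrank F ↥((line F K a).map g.toLinearMap ⊓ line F K (g a)) + 1 ∧
      ∀ x ∈ line F K a, ∀ w ∈ line F K (g a), B (g x) w = 0 := by
  haveI : FiniteDimensional F V := FiniteDimensional.trans F K V
  have hone : ∀ g' : V ≃ₗ[F] V, ∀ a' : V, a' ≠ 0 →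
      finrank F K ≤ finrank F ↥((line F K a').map g'.toLinearMap ⊓ line F K (g' a')) + 1 := by
    intro g' a' ha'
    have hle : (F ∙ g' a' : Submodule F V) ≤ (line F K a').map g'.toLinearMap ⊓ line F K (g' a') :=
      (Submodule.span_singleton_le_iff_mem _ _).2 ⟨⟨a', self_mem_line a', rfl⟩, self_mem_line _⟩
    have h1 := Submodule.finrank_mono hle
    rw [finrank_span_singleton (fun e => ha' (g'.injective (e.trans (map_zero g').symm)))] at h1
    omega
  obtain ⟨k₀, hk₀⟩ := hne
  have ha : a ≠ 0 := by rintro rfl; simp at hk₀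
  set z := g a with hz
  set q := g (k₀ • a) with hq
  have hz0 : z ≠ 0 := fun e => ha (g.injective (e.trans (map_zero g).symm))
  have hspan : ∀ x ∈ line F K a, ∃ s s' : F, g x = s • z + s' • q := by
    have hle : Submodule.span F ({z, q} : Set V) ≤ (line F K a).map g.toLinearMap := by
      rw [Submodule.span_le, Set.insert_subset_iff, Set.singleton_subset_iff]
      exact ⟨⟨a, self_mem_line a, rfl⟩, ⟨k₀ • a, smul_mem_line a k₀, rfl⟩⟩
    have hlt : finrank F (F ∙ z : Submodule F V) < finrank F ↥(Submodule.span F ({z, q} : Set V)) := by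
      refine Submodule.finrank_lt_finrank_of_lt (lt_of_le_of_ne (Submodule.span_mono (by simp)) fun e => hk₀ ?_)
      have hmem : q ∈ (F ∙ z : Submodule F V) := by rw [e]; exact Submodule.subset_span (by simp)
      obtain ⟨s, hs⟩ := Submodule.mem_span_singleton.1 hmem
      rw [← hs]
      exact Submodule.smul_mem _ s (self_mem_line z)
    rw [finrank_span_singleton hz0] at hlt
    have heq := Submodule.eq_of_le_of_finrank_le hle (by
      rw [LinearEquiv.finrank_map_eq, finrank_line ha, hr]; omega)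
    intro x hx
    have hmem : g x ∈ (line F K a).map g.toLinearMap := ⟨x, hx, rfl⟩
    rw [← heq] at hmem
    obtain ⟨s, s', e⟩ := Submodule.mem_span_pair.1 hmem
    exact ⟨s, s', e.symm⟩
  by_cases hqz : φ q z = 0
  · refine ⟨g, hg, a, ⟨k₀, hk₀⟩, hone g a ha, fun x hx w hw => ?_⟩
    obtain ⟨s, s', e⟩ := hspan x hx
    refine h.perp_of_phi ?_ hw
    rw [e, ← hz]
    simp [LinearMap.map_smul_of_tower, h.altK z, hqz]
  obtain ⟨e, he0, hez, heq⟩ : ∃ e : V, e ≠ 0 ∧ φ e z = 0 ∧ φ e q = 0 := by
    let Φ : V →ₗ[K] K × K := (φ.flip z).prod (φ.flip q)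
    have h1 := LinearMap.finrank_range_add_finrank_ker Φ
    have h2 : finrank K (LinearMap.range Φ) ≤ 2 :=
      (Submodule.finrank_le _).trans (by rw [Module.finrank_prod, finrank_self])
    obtain ⟨⟨e, he⟩, hne⟩ := finrank_pos_iff_exists_ne_zero.1 (show 0 < finrank K (LinearMap.ker Φ) by omega)
    rw [LinearMap.mem_ker] at he
    exact ⟨e, fun h0 => hne (Subtype.ext h0), congrArg Prod.fst he, congrArg Prod.snd he⟩
  obtain ⟨k, hk, hk0⟩ : ∃ k : K, f₀ k = 0 ∧ k ≠ 0 := by
    have h1 := f₀.finrank_range_add_finrank_ker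
    have h2 : finrank F (LinearMap.range f₀) ≤ 1 := (Submodule.finrank_le _).trans (finrank_self F).le
    obtain ⟨⟨k, hk⟩, hne⟩ := finrank_pos_iff_exists_ne_zero.1 (show 0 < finrank F (LinearMap.ker f₀) by omega)
    exact ⟨k, hk, fun h0 => hne (Subtype.ext h0)⟩
  set c := (φ q z)⁻¹ • z + e with hc
  have hcz : φ c z = 0 := by simp [hc, h.altK z, hez]
  have hqc : φ q c = 1 := by simp [hc, hqz, alt_swap h.altK q e, heq]
  have hzc : φ z c = 0 := by rw [alt_swap h.altK, hcz, neg_zero]
  set t := (tv h.altK c k).1.restrictScalars F with ht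
  have htM : t ∈ M := h.sp _
  have htapp : ∀ x, t x = x + (k * φ x c) • c := fun x => tv_apply h.altK c k x
  have hg' : g⁻¹ * t * g ∈ M := mul_mem (mul_mem (inv_mem hg) htM) hg
  have eaa : (g⁻¹ * t * g) a = a := by
    show g.symm (t (g a)) = a
    rw [← hz, htapp, hzc, mul_zero, zero_smul, add_zero, hz, g.symm_apply_apply]
  refine ⟨g⁻¹ * t * g, hg', a, ⟨k₀, fun hmem => ?_⟩, hone _ a ha, fun x hx w hw => ?_⟩
  · rw [eaa] at hmem
    change g.symm (t (g (k₀ • a))) ∈ line F K a at hmem
    rw [← hq, htapp, hqc, mul_one] at hmem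
    obtain ⟨s, s', hs⟩ := hspan _ hmem
    rw [g.apply_symm_apply] at hs
    have hkc : k • c = s • z + (s' - 1) • q := by rw [sub_smul, one_smul]; linear_combination (norm := module) hs
    have hs' : s' - 1 = 0 := by
      have h2 : φ (k • c) z = 0 := by simp [hcz]
      rw [hkc] at h2
      simpa [LinearMap.map_smul_of_tower, h.altK z, hqz] using h2
    rw [hs', zero_smul, add_zero, hc, smul_add, smul_smul, ← algebraMap_smul K s z] at hkc
    have hke : k • e = (algebraMap F K s - k * (φ q z)⁻¹) • z := by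
      rw [sub_smul]; linear_combination (norm := module) hkc
    have h3 : φ (k • e) q = 0 := by simp [heq]
    rw [hke] at h3
    have h4 : φ z q ≠ 0 := by rw [alt_swap h.altK]; exact neg_ne_zero.2 hqz
    rw [map_smul, LinearMap.smul_apply, smul_eq_mul, mul_eq_zero] at h3
    rw [h3.resolve_right h4, zero_smul] at hke
    exact he0 ((smul_eq_zero.1 hke).resolve_left hk0)
  · rw [eaa] at hw
    show B (g.symm (t (g x))) w = 0
    rw [← h.isom g hg, g.apply_symm_apply]
    obtain ⟨s, s', hs⟩ := hspan x hx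
    obtain ⟨u, u', hu⟩ := hspan w hw
    have h0 : B (g x) (g w) = 0 := by rw [h.isom g hg]; exact h.line_isotropic hx hw
    have h1 : φ (g x) c = algebraMap F K s' := by
      rw [hs]
      simp [LinearMap.map_smul_of_tower, hzc, hqc, Algebra.algebraMap_eq_smul_one]
    rw [htapp, map_add, LinearMap.add_apply, h0, zero_add, h1, hu, mul_comm k, mul_smul, algebraMap_smul]
    simp [h.eq, hcz, alt_swap h.altK c q, hqc, hk]

end CfsgLib.Classical.FieldExtSymp
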